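import Cfsg.Agent.H832.Tall.Split
import Cfsg.Agent.NotCT.Orders
import Cfsg.Agent.KFacts.SuzSheetE
import Cfsg.Agent.KFacts.HN.Sheet
import Cfsg.Agent.KFacts.CoTwo.QuotInst
import Cfsg.Agent.KFacts.J4.SheetJ4
import Cfsg.Agent.KFacts.FiTF.SheetF
import Cfsg.Agent.KFacts.Co1.CaseM
import Cfsg.Agent.KFacts.J2.SheetX
import Cfsg.Agent.OddHalf.D8.SheetMap
import Cfsg.Agent.OddHalf.D8.RowJ3
import Cfsg.Agent.Mrg.Omega.ML.RowBM

/-!
# S2927, task 5476: `Both K` for `J2, J3, Suz, Co1, Co2, HN, Fi24', J4, Th, B, M` (helper832)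

For these groups the library has a *sheet* (`OddHalf.D8.Sheet.SheetE`) of the centralizer of a 2-central involution:
a perfect normal subgroup `P` with the extraspecial group `R = O₂(P)`, `C(z)/P` small, all `P`-invariant
subgroups of `R` being `≤ ⟨z⟩` or `R`. `Split.both_of_sheetX` gives `Both K`:

* the center of a Sylow 2-subgroup is `⟨z⟩`, hence one class of 2-central involutions;
* a normal elementary abelian subgroup `W ∋ z` of `C(z)` meets `P` in `⟨z⟩`, hence centralises `P`, hence is `⟨z⟩`;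
* `C(z)` is not a 2-group as `P ≠ 1` is perfect.
-/

set_option autoImplicit false

namespace Cfsg.Agent.H832.Tall

open Cfsg Subgroup Cfsg.Agent.H226.Tall Cfsg.Agent.OddHalf.D8.Sheet Cfsg.Agent.OddHalf.D8
open Cfsg.Agent.OddHalf.D8.JTwo.Sheet (of_sheetE)

universe u

theorem both_of_sheetE {K : Type*} [Group K] [Finite K] {z : K} {P R : Subgroup K} (h : SheetE z P R) : Both K :=
  both_of_sheetX (of_sheetE h)

theorem finite_of_card {K : Type*} {n : ℕ} (h : Nat.card K = n) (hn : n ≠ 0) : Finite K :=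
  Nat.finite_of_card_ne_zero (by rw [h]; exact hn)

section

variable {T : Type u} [Group T]

theorem both_suz (h : Spor.IsoSuz T) : Both T := by
  have := finite_of_card (NotCT.Orders.suz h) (by norm_num)
  obtain ⟨e⟩ := h
  exact both_of_sheetE (SheetMap.sheetE_map e.symm KFacts.SuzSheetE.sheetE)

theorem both_hn (h : Spor.IsoHN T) : Both T := by
  have := finite_of_card (NotCT.Orders.hn h) (by norm_num)
  obtain ⟨e⟩ := h
  exact both_of_sheetE (SheetMap.sheetE_map e.symm KFacts.HN.sheetE)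

theorem both_co2 (h : Spor.IsoCo2 T) : Both T := by
  have := finite_of_card (NotCT.Orders.co2 h) (by norm_num)
  obtain ⟨e⟩ := h
  exact both_of_sheetE (SheetMap.sheetE_map e.symm KFacts.CoTwo.QuotInst.dataT.sheet)

theorem both_j4 (h : Spor.IsoJ4 T) : Both T := by
  have := finite_of_card (NotCT.Orders.j4 h) (by norm_num)
  obtain ⟨h1, h2, ⟨F⟩⟩ := KFacts.J4.Base.exists_full h
  exact both_of_sheetE (KFacts.J4.SheetJ4.sheet F)

theorem both_fi24 (h : Spor.IsoFi24' T) : Both T := by
  have := finite_of_card (NotCT.Orders.fi24 h) (by norm_num)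
  obtain ⟨e⟩ := h
  exact both_of_sheetE (SheetMap.sheetE_map e.symm KFacts.FiTF.sheetE)

theorem both_j2 (h : Spor.IsoJ2 T) : Both T := by
  have := finite_of_card (NotCT.Orders.j2 h) (by norm_num)
  obtain ⟨t, u, Q, v, ρ, D⟩ := KFacts.J2.Facts.exists_dat_of h
  exact both_of_sheetX (KFacts.J2.SheetX.sheetX D)

theorem both_j3 (h : Spor.IsoJ3 T) : Both T := by
  have := finite_of_card (NotCT.Orders.j3 h) (by norm_num)
  obtain ⟨z, P, R, hs⟩ := RowJ3.sheet T inferInstance h
  exact both_of_sheetE hs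

theorem both_co1 (h : Spor.IsoCo1 T) : Both T := by
  have := finite_of_card (NotCT.Orders.co1 h) (by norm_num)
  obtain ⟨z, P, R, hs, -⟩ := Cfsg.Agent.KFacts.Co1.CaseM.exists_sheets T h
  exact both_of_sheetE hs

theorem both_of_has [Finite T] {w : ℕ} (h : Omega.ML.ExInst.Has.{u, 0} T w) : Both T := by
  obtain ⟨G, _, hf, Q, z, L, _, hL, π, D, hQ, hlb, ⟨e⟩⟩ := h
  exact both_of_sheetE (SheetMap.sheetE_map e.symm D.sheet)

theorem both_m (h : Spor.IsoM T) : Both T := by
  have := finite_of_card (NotCT.Orders.m h) (by norm_num)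
  exact both_of_has (Omega.ML.ExInst.monster.{u, 0} T h)

theorem both_b (h : Spor.IsoB T) : Both T := by
  have := finite_of_card (NotCT.Orders.b h) (by norm_num)
  exact both_of_has (Omega.ML.ExInst.baby.{u, 0} T h)

theorem both_th (h : Spor.IsoTh T) : Both T := by
  have := finite_of_card (NotCT.Orders.th h) (by norm_num)
  exact both_of_has (Omega.ML.ExInst.thompson.{u, 0} T h)

end

end Cfsg.Agent.H832.Tall
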