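import Cfsg.Agent.H832.Tall.Split
import Cfsg.Agent.KFacts.HS.Final
import Cfsg.Agent.NotCT.Orders

/-!
# S2927, task 5477: `Both K` for the Higman-Sims group (helper832)

`C(z) = R.S₅`, `R = 4 ∘ 2^(1+4)`, `P = C(u) = R.A₅` with `u² = z`. The sheet `OddHalf.D8.SheetHS` says that a 2-subgroup of
`C(z)` normalised by `P` is in `R`, and a `P`-invariant subgroup of `R` is `≤ ⟨u⟩` or `R`.
-/

set_option autoImplicit false

namespace Cfsg.Agent.H832.Tall

open Subgroup Cfsg Cfsg.Agent.H226.Tall Cfsg.Agent.OddHalf.D8.HS.SheetHS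

universe u

/-- a nontrivial perfect subgroup is not a 2-group -/
theorem not_isPGroup_of_perf {K : Type*} [Group K] [Finite K] {P : Subgroup K} (hperf : ⁅P, P⁆ = P) {z : K}
    (hz : z ∈ P) (hz1 : z ≠ 1) : ¬ IsPGroup 2 P := by
  intro hP2
  have hnt : Nontrivial P := ⟨⟨⟨z, hz⟩, 1, fun e => hz1 (congrArg Subtype.val e)⟩⟩
  have hsol : Group.IsSolvable P := by
    have := hP2.isNilpotent
    infer_instance
  have h1 : commutator P < ⊤ := Group.IsSolvable.commutator_lt_top_of_nontrivial P
  apply h1.ne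
  have h2 := map_subtype_commutator P
  rw [hperf] at h2
  apply Subgroup.map_injective P.subtype_injective
  rw [h2, ← MonoidHom.range_eq_map, P.range_subtype]

theorem both_of_sheetHS {K : Type*} [Group K] [Finite K] {z u k : K} {P R : Subgroup K} (h : SheetHS z u k P R) :
    Both K := by
  obtain ⟨S, hzS, hcS, hcen⟩ := h.syl
  have hPz : ∀ x ∈ P, x * z = z * x := by
    intro x hx
    have h1 := (h.memP x).1 hx
    rw [← h.uu]
    calc x * (u * u) = (x * u) * u := by group
      _ = (u * x) * u := by rw [h1]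
      _ = u * (x * u) := mul_assoc _ _ _
      _ = u * (u * x) := by rw [h1]
      _ = u * u * x := (mul_assoc _ _ _).symm
  refine both_of (z := z) (fun z₀ hz₀ => conj_of_syl (S := S) ?_ hz₀) ?_ ?_
  · intro y hy hc
    exact hcen y (mem_sylow_of_cent S hy hc) hc
  · intro W hsq hzW hn w hw
    have hWz : W ≤ centralizer ({z} : Set K) := fun w hw => mem_centralizer_singleton_iff.2 (comm_of_sq hsq hw hzW)
    have hinv : ∀ x ∈ P, ∀ b ∈ W, x * b * x⁻¹ ∈ W := fun x hx b hb => hn x (hPz x hx) b hb
    have hWR : W ≤ R := h.core W hWz (isPGroup_of_sq hsq) hinv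
    have hu : u ∉ W := by
      intro hu
      have h1 := hsq u hu
      rw [h.uu] at h1
      exact h.z1 h1
    rcases h.subs W hWR hinv with h1 | h1
    · rcases h1 w hw with h2 | h2 | h2 | h2
      · exact Or.inl h2
      · exact Or.inr h2
      · rw [h2] at hw
        exact absurd hw hu
      · rw [h2] at hw
        exact absurd (by simpa using W.inv_mem hw) hu
    · rw [h1] at hu
      exact absurd h.uR hu
  · intro hp
    exact not_isPGroup_of_perf h.perf (h.RP (by rw [← h.uu]; exact R.mul_mem h.uR h.uR)) h.z1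
      (hp.to_le fun x hx => mem_centralizer_singleton_iff.2 (hPz x hx))

/-- **Row HS.** -/
theorem both_hs {K : Type u} [Group K] (h : Spor.IsoHS K) : Both K := by
  have : Finite K := Nat.finite_of_card_ne_zero (by rw [NotCT.Orders.hs h]; norm_num)
  obtain ⟨z, v, k, P, R, hs, -⟩ := KFacts.HS.exists_sheet h
  exact both_of_sheetHS hs

end Cfsg.Agent.H832.Tall
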