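import Cfsg.Agent.H226.Tall.Defs
import Cfsg.Agent.OddHalf.D8.JTwo.Sheet
import Cfsg.Agent.KFacts.LargeO2
import Cfsg.Agent.KFacts.AutLarge

/-!
# S2927, task 5476: `Both K` from a large extraspecial subgroup or from a sheet (helper832)

* `both_of` : reduction to one involution `z`;
* `both_of_irr` : `Large Q z`, `Irr Q z`, `|K : C(z)|` odd;
* `both_of_sheetX` : a sheet `OddHalf.D8.JTwo.Sheet.SheetX z P R` (and so `SheetE z P R`).
-/

set_option autoImplicit false

namespace Cfsg.Agent.H832.Tall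

open Subgroup Cfsg Cfsg.Agent.H226.Tall Cfsg.Agent.Co2Type.Quad Cfsg.Agent.KFacts.LargeO2
open Cfsg.Agent.H239.CharPLocal (CP)
open Cfsg.Agent.OddHalf.D8.JTwo.Sheet
open Cfsg.Agent.OddHalf.D8.Sheet (map_P)
open scoped commutatorElement

universe u

section

variable {K : Type*} [Group K]

/-- conjugation of the centralizer -/
theorem cent_conj {g a b : K} (h : g * a * g⁻¹ = b) (u : K) : u * b = b * u ↔ (g⁻¹ * u * g) * a = a * (g⁻¹ * u * g) := by
  subst h
  constructor
  · intro h
    calc g⁻¹ * u * g * a = g⁻¹ * (u * (g * a * g⁻¹)) * g := by group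
      _ = a * (g⁻¹ * u * g) := by rw [h]; group
  · intro h
    calc u * (g * a * g⁻¹) = g * (g⁻¹ * u * g * a) * g⁻¹ := by group
      _ = g * a * g⁻¹ * u := by rw [h]; group

/-- **Reduction to one involution**: all 2-central involutions are conjugate to `z`, the only nontrivial elements
of a `C(z)`-invariant elementary abelian subgroup `W ∋ z` are `z`, and `C(z)` is not a 2-group. -/
theorem both_of {z : K} (hcj : ∀ z₀ : K, TwoC z₀ → ∃ g : K, g * z₀ * g⁻¹ = z)
    (hW : ∀ W : Subgroup K, (∀ w ∈ W, w * w = 1) → z ∈ W → (∀ u : K, u * z = z * u → ∀ w ∈ W, u * w * u⁻¹ ∈ W) →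
      ∀ w ∈ W, w = 1 ∨ w = z) (h2 : ¬ IsPGroup 2 ↥(centralizer ({z} : Set K))) : Both K := by
  constructor
  · intro z₀ hz₀ _ W hsq hzW hn w hw hα
    obtain ⟨α, hα⟩ := hα
    obtain ⟨g, hg⟩ := hcj z₀ hz₀
    have hmem : ∀ x, x ∈ W.map (MulAut.conj g).toMonoidHom ↔ g⁻¹ * x * g ∈ W := by
      intro x
      constructor
      · rintro ⟨y, hy, rfl⟩
        show g⁻¹ * (g * y * g⁻¹) * g ∈ W
        have : g⁻¹ * (g * y * g⁻¹) * g = y := by group
        rwa [this]
      · intro hx
        refine ⟨_, hx, ?_⟩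
        show g * (g⁻¹ * x * g) * g⁻¹ = x
        group
    have h1 := hW (W.map (MulAut.conj g).toMonoidHom) (by
      rintro _ ⟨y, hy, rfl⟩
      rw [← map_mul, hsq y hy, map_one]) ((hmem z).2 (by
        rw [← hg]
        have : g⁻¹ * (g * z₀ * g⁻¹) * g = z₀ := by group
        rwa [this])) (by
      intro u hu y hy
      rw [hmem] at hy ⊢
      have h3 : g⁻¹ * u * g ∈ centralizer ({z₀} : Set K) :=
        mem_centralizer_singleton_iff.2 ((cent_conj hg u).1 hu)
      have h4 := (mem_normalizer_iff.1 (hn h3) (g⁻¹ * y * g)).1 hy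
      have h5 : g⁻¹ * (u * y * u⁻¹) * g = g⁻¹ * u * g * (g⁻¹ * y * g) * (g⁻¹ * u * g)⁻¹ := by group
      rw [h5]
      exact h4) (g * w * g⁻¹) ⟨w, hw, rfl⟩
    have hw1 : w ≠ 1 := by
      rintro rfl
      have h5 : z₀ = 1 := α.injective (by rw [hα, map_one])
      have h6 := hz₀.1
      rw [h5, orderOf_one] at h6
      omega
    rcases h1 with h1 | h1
    · exfalso
      apply hw1
      calc w = g⁻¹ * (g * w * g⁻¹) * g := by group
        _ = 1 := by rw [h1]; group
    · calc w = g⁻¹ * (g * w * g⁻¹) * g := by group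
        _ = g⁻¹ * (g * z₀ * g⁻¹) * g := by rw [h1, hg]
        _ = z₀ := by group
  · intro z₀ hz₀ h3
    obtain ⟨g, hg⟩ := hcj z₀ hz₀
    apply h2
    rintro ⟨x, hx⟩
    rw [mem_centralizer_singleton_iff] at hx
    obtain ⟨k, hk⟩ := h3 ⟨g⁻¹ * x * g, mem_centralizer_singleton_iff.2 ((cent_conj hg x).1 hx)⟩
    refine ⟨k, Subtype.ext ?_⟩
    have h4 : (g⁻¹ * x * g) ^ 2 ^ k = 1 := congrArg Subtype.val hk
    show x ^ 2 ^ k = 1
    have h5 : g⁻¹ * x ^ 2 ^ k * g = 1 := by
      rw [← h4]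
      have h6 : ∀ n : ℕ, (g⁻¹ * x * g) ^ n = g⁻¹ * x ^ n * g := by
        intro n
        induction n with
        | zero => simp
        | succ n ih => rw [pow_succ, ih, pow_succ]; group
      rw [h6]
    calc x ^ 2 ^ k = g * (g⁻¹ * x ^ 2 ^ k * g) * g⁻¹ := by group
      _ = 1 := by rw [h5]; group

/-- conjugacy of the 2-central involutions, if `1, z` are the only 2-elements centralising some Sylow 2-subgroup -/
theorem conj_of_syl [Finite K] {z : K} {S : Sylow 2 K} (hS : ∀ y : K, (∃ n : ℕ, y ^ 2 ^ n = 1) → (∀ x ∈ S, x * y = y * x) → y = 1 ∨ y = z)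
    {z₀ : K} (hz₀ : TwoC z₀) : ∃ g : K, g * z₀ * g⁻¹ = z := by
  obtain ⟨ho, P, hP⟩ := hz₀
  obtain ⟨g, hg⟩ := MulAction.exists_smul_eq K P S
  refine ⟨g, ?_⟩
  have h1 : (g * z₀ * g⁻¹) ^ 2 ^ 1 = 1 := by
    have h0 : z₀ * z₀ = 1 := by rw [← pow_two, ← ho, pow_orderOf_eq_one]
    rw [pow_one, pow_two]
    calc g * z₀ * g⁻¹ * (g * z₀ * g⁻¹) = g * (z₀ * z₀) * g⁻¹ := by group
      _ = 1 := by rw [h0]; group
  rcases hS (g * z₀ * g⁻¹) ⟨1, h1⟩ (by
    intro x hx
    rw [← hg] at hx
    have hx' : g⁻¹ * x * g ∈ P := by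
      obtain ⟨y, hy, rfl⟩ : ∃ y ∈ P, g * y * g⁻¹ = x := hx
      have h4 : g⁻¹ * (g * y * g⁻¹) * g = y := by group
      rwa [h4]
    have h3 := mem_centralizer_singleton_iff.1 (hP hx')
    exact (cent_conj rfl x).2 h3) with h2 | h2
  · exfalso
    have h3 : z₀ = 1 := by
      calc z₀ = g⁻¹ * (g * z₀ * g⁻¹) * g := by group
        _ = 1 := by rw [h2]; group
    rw [h3, orderOf_one] at ho
    omega
  · exact h2

end

/-- elements of an elementary abelian subgroup commute -/
theorem comm_of_sq {K : Type*} [Group K] {W : Subgroup K} (hsq : ∀ w ∈ W, w * w = 1) {a b : K} (ha : a ∈ W) (hb : b ∈ W) :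
    a * b = b * a := by
  have h1 : ∀ w ∈ W, w⁻¹ = w := fun w hw => inv_eq_of_mul_eq_one_right (hsq w hw)
  have h2 := h1 (a * b) (W.mul_mem ha hb)
  rw [mul_inv_rev, h1 a ha, h1 b hb] at h2
  exact h2.symm

theorem isPGroup_of_sq {K : Type*} [Group K] {W : Subgroup K} (hsq : ∀ w ∈ W, w * w = 1) : IsPGroup 2 W := by
  rintro ⟨x, hx⟩
  refine ⟨1, Subtype.ext ?_⟩
  show x ^ 2 ^ 1 = 1
  rw [pow_one, pow_two, hsq x hx]

/-- **A large extraspecial subgroup with `C(z)` irreducible on `Q/⟨z⟩`.** -/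
theorem both_of_irr {K : Type*} [Group K] [Finite K] {Q : Subgroup K} {z : K} (h : Large Q z) (hirr : Irr Q z)
    (hodd : Odd (centralizer ({z} : Set K)).index) (hQ : ∃ x ∈ Q, x ≠ 1 ∧ x ≠ z) : Both K := by
  obtain ⟨S, hS⟩ := Cfsg.Agent.KFacts.AutLarge.exists_sylow hodd
  have hQS := Cfsg.Agent.KFacts.AutLarge.le_sylow h S hS
  refine both_of (z := z) (fun z₀ hz₀ => conj_of_syl (S := S) ?_ hz₀) ?_ ?_
  · intro y _ hc
    have h1 : ∀ x ∈ Q, y * x = x * y := fun x hx => (hc x (hQS hx)).symm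
    have h2 := h.self y (h1 z h.z_mem) h1
    exact h.cent y h2 h1
  · intro W hsq hzW hn w hw
    have hWQ : W ≤ Q := le_of_normal h hirr hQ (isPGroup_of_sq hsq) (fun w hw => comm_of_sq hsq hw hzW) hn
    rcases hirr W hWQ hn with h1 | h1
    · exact h1 w hw
    · exact h.cent w (hWQ hw) fun y hy => comm_of_sq hsq hw (by rw [h1]; exact hy)
  · intro hp
    have hCQ : centralizer ({z} : Set K) ≤ Q := le_of_normal h hirr hQ hp
      (fun w hw => mem_centralizer_singleton_iff.1 hw) (by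
        intro u hu w hw
        exact (centralizer ({z} : Set K)).mul_mem ((centralizer ({z} : Set K)).mul_mem
          (mem_centralizer_singleton_iff.2 hu) hw) ((centralizer ({z} : Set K)).inv_mem
          (mem_centralizer_singleton_iff.2 hu)))
    obtain ⟨x, hxQ, hx1, hxz⟩ := hQ
    have hN := hirr (Q ⊓ centralizer ({x} : Set K)) inf_le_left (by
      rintro u hu y ⟨hyQ, hy⟩
      have huQ : u ∈ Q := hCQ (mem_centralizer_singleton_iff.2 hu)
      refine ⟨h.conj_mem u hu y hyQ, ?_⟩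
      have hyx : y * x = x * y := mem_centralizer_singleton_iff.1 hy
      refine mem_centralizer_singleton_iff.2 ?_
      rcases h.comm u huQ y hyQ with h1 | h1
      · rw [h1, mul_inv_cancel_right]
        exact hyx
      · have h2 : u * y * u⁻¹ = y * z := by
          rw [h1, mul_assoc, ← h.comm_z _ (Q.inv_mem huQ), ← mul_assoc, mul_inv_cancel_right]
        rw [h2, mul_assoc, ← h.comm_z x hxQ, ← mul_assoc, hyx, mul_assoc])
    rcases hN with h1 | h1
    · rcases h1 x ⟨hxQ, mem_centralizer_singleton_iff.2 rfl⟩ with h2 | h2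
      · exact hx1 h2
      · exact hxz h2
    · have h2 : ∀ y ∈ Q, x * y = y * x := by
        intro y hy
        rw [← h1] at hy
        exact (mem_centralizer_singleton_iff.1 hy.2).symm
      rcases h.cent x hxQ h2 with h3 | h3
      · exact hx1 h3
      · exact hxz h3

/-- a 2-element normalising (centralising) a Sylow 2-subgroup is in it -/
theorem mem_sylow_of_cent {K : Type*} [Group K] [Finite K] (S : Sylow 2 K) {y : K} (hy : ∃ n : ℕ, y ^ 2 ^ n = 1)
    (hc : ∀ x ∈ S, x * y = y * x) : y ∈ S := by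
  have hp : IsPGroup 2 (zpowers y) := by
    obtain ⟨n, hn⟩ := hy
    rintro ⟨x, k, rfl⟩
    refine ⟨n, Subtype.ext ?_⟩
    show (y ^ k) ^ 2 ^ n = 1
    rw [← zpow_natCast, ← zpow_mul, mul_comm, zpow_mul, zpow_natCast, hn, one_zpow]
  have h1 := hp.inf_normalizer_sylow S
  have h2 : y ∈ zpowers y ⊓ normalizer (S : Set K) := by
    refine ⟨mem_zpowers y, mem_normalizer_iff.2 fun x => ?_⟩
    constructor
    · intro hx
      have h3 : y * x * y⁻¹ = x := by rw [← hc x hx, mul_inv_cancel_right]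
      rw [h3]
      exact hx
    · intro hx
      have h3 := hc _ hx
      have h4 : x = y * x * y⁻¹ := by
        have h5 : y⁻¹ * (y * x * y⁻¹ * y) = y⁻¹ * (y * (y * x * y⁻¹)) := by rw [h3]
        simpa [mul_assoc] using h5
      rw [h4]
      exact hx
  rw [h1] at h2
  exact h2.2

/-- **From the sheet** -/
theorem both_of_sheetX {K : Type*} [Group K] [Finite K] {z : K} {P R : Subgroup K} (h : SheetX z P R) : Both K := by
  obtain ⟨S, hzS, hcS, hcen⟩ := h.syl
  have hPle : P ≤ centralizer ({z} : Set K) := fun x hx => mem_centralizer_singleton_iff.2 (h.cen x hx)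
  refine both_of (z := z) (fun z₀ hz₀ => conj_of_syl (S := S) ?_ hz₀) ?_ ?_
  · intro y hy hc
    exact hcen y (mem_sylow_of_cent S hy hc) hc
  · -- `P` is normal in `C(z)`
    have hPn : ∀ u : K, u * z = z * u → ∀ x ∈ P, u * x * u⁻¹ ∈ P := by
      intro u hu x hx
      have hcz : MulAut.conj u z = z := by
        rw [MulAut.conj_apply, hu, mul_inv_cancel_right]
      exact map_P h.perf h.cen h.der (MulAut.conj u) hcz hx
    intro W hsq hzW hn w hw
    have hWz : ∀ w ∈ W, w * z = z * w := fun w hw => comm_of_sq hsq hw hzW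
    have hWP : ∀ w ∈ W ⊓ P, w = 1 ∨ w = z := by
      have hinv : ∀ x ∈ P, ∀ b ∈ W ⊓ P, x * b * x⁻¹ ∈ W ⊓ P := fun x hx b hb =>
        ⟨hn x (h.cen x hx) b hb.1, P.mul_mem (P.mul_mem hx hb.2) (P.inv_mem hx)⟩
      have h1 : W ⊓ P ≤ R := h.Rmax _ inf_le_right (isPGroup_of_sq fun w hw => hsq w hw.1) hinv
      rcases h.Rmin _ h1 hinv with h2 | h2
      · exact h2
      · exfalso
        obtain ⟨a, ha, b, hb, hab⟩ := h.Rna
        rw [← h2] at ha hb
        exact hab (comm_of_sq hsq ha.1 hb.1)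
    have hwz := hWz w hw
    -- `w` centralises `P`
    have hwx : ∀ x ∈ P, w * x * w⁻¹ = x ∨ w * x * w⁻¹ = z * x := by
      intro x hx
      have h1 : w * x * w⁻¹ * x⁻¹ ∈ W ⊓ P := by
        refine ⟨?_, P.mul_mem (hPn w hwz x hx) (P.inv_mem hx)⟩
        have h2 := W.mul_mem hw (hn x (h.cen x hx) _ (W.inv_mem hw))
        have h3 : w * x * w⁻¹ * x⁻¹ = w * (x * w⁻¹ * x⁻¹) := by group
        rw [h3]
        exact h2
      rcases hWP _ h1 with h2 | h2
      · exact Or.inl (mul_inv_eq_one.1 h2)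
      · exact Or.inr (mul_inv_eq_iff_eq_mul.1 h2)
    have hcomm : ∀ x ∈ P, w * x * w⁻¹ = x := by
      have h1 : ⁅P, P⁆ ≤ centralizer ({w} : Set K) := by
        rw [commutator_le]
        intro a ha b hb
        rw [mem_centralizer_singleton_iff]
        have haz := h.cen a ha
        have hbz := h.cen b hb
        have hzi : z⁻¹ = z := inv_eq_of_mul_eq_one_right h.zz
        have key : w * ⁅a, b⁆ * w⁻¹ = ⁅a, b⁆ := by
          have h2 : w * ⁅a, b⁆ * w⁻¹ = ⁅w * a * w⁻¹, w * b * w⁻¹⁆ := by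
            rw [commutatorElement_def, commutatorElement_def]; group
          rw [h2]
          have hca : Commute z a := haz.symm
          have hcb : Commute z b := hbz.symm
          have e1 : ∀ c d : K, Commute z c → Commute z d → ⁅z * c, d⁆ = ⁅c, d⁆ := by
            intro c d hc hd
            rw [commutatorElement_def, commutatorElement_def, mul_inv_rev]
            calc z * c * d * (c⁻¹ * z⁻¹) * d⁻¹ = z * (c * d * c⁻¹) * z⁻¹ * d⁻¹ := by group
              _ = (c * d * c⁻¹) * d⁻¹ := by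
                have h5 : Commute z (c * d * c⁻¹) := (hc.mul_right hd).mul_right hc.inv_right
                rw [h5.eq, mul_inv_cancel_right]
          have e2 : ∀ c d : K, Commute z c → Commute z d → ⁅c, z * d⁆ = ⁅c, d⁆ := by
            intro c d hc hd
            rw [commutatorElement_def, commutatorElement_def, mul_inv_rev]
            calc c * (z * d) * c⁻¹ * (d⁻¹ * z⁻¹) = (c * z) * (d * c⁻¹ * d⁻¹) * z⁻¹ := by group
              _ = z * (c * (d * c⁻¹ * d⁻¹)) * z⁻¹ := by rw [← hc.eq, mul_assoc z c]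
              _ = c * (d * c⁻¹ * d⁻¹) := by
                have h5 : Commute z (c * (d * c⁻¹ * d⁻¹)) :=
                  hc.mul_right ((hd.mul_right hc.inv_right).mul_right hd.inv_right)
                rw [h5.eq, mul_inv_cancel_right]
              _ = c * d * c⁻¹ * d⁻¹ := by group
          rcases hwx a ha with h3 | h3 <;> rcases hwx b hb with h4 | h4 <;> rw [h3, h4]
          · exact e2 a b hca hcb
          · exact e1 a b hca hcb
          · rw [e1 a (z * b) hca ((Commute.refl z).mul_right hcb), e2 a b hca hcb]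
        calc ⁅a, b⁆ * w = (w * ⁅a, b⁆ * w⁻¹) * w := by rw [key]
          _ = w * ⁅a, b⁆ := by group
      intro x hx
      rw [← h.perf] at hx
      have h2 := mem_centralizer_singleton_iff.1 (h1 hx)
      rw [← h2, mul_inv_cancel_right]
    -- `w` acts as an element of `R`
    obtain ⟨r, hr, hwr⟩ := h.aut (MulAut.conj w) (by
      rintro ⟨x, k, rfl⟩
      refine ⟨1, Subtype.ext ?_⟩
      show (MulAut.conj w ^ k) ^ 2 ^ 1 = 1
      rw [pow_one, ← zpow_natCast, ← zpow_mul, mul_comm, zpow_mul, zpow_natCast, pow_two, ← map_mul, hsq w hw, map_one,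
        one_zpow]) (by rw [MulAut.conj_apply, hwz, mul_inv_cancel_right]) (by
      intro x hx
      rw [MulAut.conj_apply, hcomm x hx, inv_mul_cancel]
      exact R.one_mem)
    have hwr' : ∀ x : K, w * x * w⁻¹ = r * x * r⁻¹ := fun x => DFunLike.congr_fun hwr x
    set c : K := r⁻¹ * w with hc
    have hcc : ∀ x : K, x * c = c * x := by
      intro x
      have h1 := hwr' x
      have h2 : c * x * c⁻¹ = x := by
        rw [hc]
        calc r⁻¹ * w * x * (r⁻¹ * w)⁻¹ = r⁻¹ * (w * x * w⁻¹) * r := by group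
          _ = x := by rw [h1]; group
      rw [← mul_inv_eq_iff_eq_mul.1 h2]
    have hwc : w = r * c := by rw [hc]; group
    have hcR : c ∈ R := by
      have h2 : ∃ n : ℕ, c ^ 2 ^ n = 1 := by
        obtain ⟨n, hn'⟩ := h.R2 ⟨r, hr⟩
        have h3 : r ^ 2 ^ n = 1 := congrArg Subtype.val hn'
        refine ⟨n + 1, ?_⟩
        have h4 : Commute r⁻¹ w := by
          have h5 := hcc r
          rw [hc] at h5
          show r⁻¹ * w = w * r⁻¹
          have h6 : w = r⁻¹ * w * r := by rw [← h5]; group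
          calc r⁻¹ * w = (r⁻¹ * w * r) * r⁻¹ := by group
            _ = w * r⁻¹ := by rw [← h6]
        rw [hc, h4.mul_pow, inv_pow, pow_succ, pow_mul, h3, one_pow, inv_one, one_mul, mul_comm, pow_mul, pow_two,
          hsq w hw, one_pow]
      rcases hcen c (mem_sylow_of_cent S h2 fun x _ => hcc x) (fun x _ => hcc x) with h3 | h3
      · rw [h3]; exact R.one_mem
      · rw [h3]; exact h.zR
    refine hWP w ⟨hw, ?_⟩
    rw [hwc]
    exact h.RP (R.mul_mem hr hcR)
  · intro hp
    have hP2 : IsPGroup 2 P := hp.to_le hPle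
    have hnt : Nontrivial P := ⟨⟨⟨z, h.RP h.zR⟩, 1, fun e => h.z1 (congrArg Subtype.val e)⟩⟩
    have hsol : Group.IsSolvable P := by
      have := hP2.isNilpotent
      infer_instance
    have h1 : commutator P < ⊤ := Group.IsSolvable.commutator_lt_top_of_nontrivial P
    apply h1.ne
    have h2 := map_subtype_commutator P
    rw [h.perf] at h2
    apply Subgroup.map_injective P.subtype_injective
    rw [h2, ← MonoidHom.range_eq_map, P.range_subtype]

end Cfsg.Agent.H832.Tall
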